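import Groth.Agent.AbVar.K526.Leray
import Groth.Agent.Fga.QTPull2
import Groth.Agent.S0030
import Groth.Agent.S0033
import Groth.Agent.S0007
import Groth.Agent.CurvesB.HZero
import Groth.Agent.Fdesc.QCohStalk
import Groth.Agent.Dcoh.DerSch
import Groth.Agent.VarietyB.PullSec

/-!
# The stalk of a higher direct image is the cohomology over the local ring

`f : X ⟶ Y` quasi-compact and quasi-separated, `F` quasi-coherent, `y ∈ Y`, `X₁ = X ×_Y Spec O_{Y,y}`.
* `isBC_germ`: for `V` affine, `Γ(V, M) → M_y` is the base change along `Γ(V, O) → O_y`.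
* `exists_equiv`: `(R^p f_* F)_y ≃ₗ[O_y] H^p(X₁, g^* F)`.
-/

set_option autoImplicit false
set_option linter.style.haveILetI false
universe u
open CategoryTheory CategoryTheory.Limits AlgebraicGeometry Opposite TopologicalSpace

namespace K163.StalkRpush

open Groth.Agent Groth.Agent.CohqA.BaseChangeMod

variable {X Y : Scheme.{u}}

/-- The germ map from an affine open is a base change. -/
theorem isBC_germ (M : Y.Modules) (hM : Coh.IsQCoh M) {V : Y.Opens} (hV : IsAffineOpen V) (y : Y)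
    (hy : y ∈ V) : IsBC (Y.presheaf.germ V y hy).hom (M.presheaf.germ V y hy).hom := by
  letI a1 : Algebra Γ(Y, V) (Y.presheaf.stalk y) := (Y.presheaf.germ V y hy).hom.toAlgebra
  letI m1 := Fdesc.QCohStalk.stalkModule M y hy
  haveI : IsScalarTower Γ(Y, V) (Y.presheaf.stalk y) (M.presheaf.stalk y) :=
    ⟨fun a b c => by
      change ((Y.presheaf.germ V y hy).hom a * b) • c = (Y.presheaf.germ V y hy).hom a • (b • c)
      rw [mul_smul]⟩
  haveI := Fdesc.QCohStalk.isLocalizedModule_germ M hV hM y hy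
  haveI : IsLocalization.AtPrime (Y.presheaf.stalk y) (hV.primeIdealOf ⟨y, hy⟩).asIdeal :=
    hV.isLocalization_stalk ⟨y, hy⟩
  have h := (isBC_iff_isBaseChange (B := Y.presheaf.stalk y) (Fdesc.QCohStalk.germₗ M y hy)).2
    (IsLocalizedModule.isBaseChange (hV.primeIdealOf ⟨y, hy⟩).asIdeal.primeCompl (Y.presheaf.stalk y) _)
  exact h

/-- Base change along a composite with a ring isomorphism. -/
theorem isBC_of_ringEquiv {A B C : Type u} [CommRing A] [CommRing B] [CommRing C] {φ : A →+* B}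
    {M N : Type u} [AddCommGroup M] [Module A M] [AddCommGroup N] [Module B N] [mC : Module C N] {f : M →+ N}
    (h : IsBC φ f) (ρ : C ≃+* B) (hmod : ∀ (c : C) (x : N), c • x = ρ c • x) {ψ : A →+* C}
    (hψ : ∀ a, ρ (ψ a) = φ a) : IsBC ψ f := by
  refine ⟨fun r x => ?_, fun Q _ _ g hg => ?_⟩
  · rw [h.map_smul, hmod, hψ]
  · letI : Module B Q := Module.compHom Q (ρ.symm : B →+* C)
    have hQ : ∀ (b : B) (q : Q), b • q = ρ.symm b • q := fun _ _ => rfl
    obtain ⟨g', hg', hu⟩ := h.lift Q g (fun r x => by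
      rw [hg, hQ, ← hψ, RingEquiv.symm_apply_apply])
    refine ⟨{ g' with
      map_smul' := fun c x => ?_ }, hg', fun g'' h'' => ?_⟩
    · change g' (c • x) = c • g' x
      rw [hmod, g'.map_smul, hQ, RingEquiv.symm_apply_apply]
    · have := hu { g'' with
        map_smul' := fun b x => by
          change g'' (b • x) = b • g'' x
          have e : b • x = ρ.symm b • x := by rw [hmod, RingEquiv.apply_symm_apply]
          rw [e, g''.map_smul]
          rfl } h''
      refine LinearMap.ext fun x => ?_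
      exact LinearMap.congr_fun this x

/-- Localization is flat. -/
theorem flat_fromSpecStalk (Y : Scheme.{u}) (y : Y) : Flat (Y.fromSpecStalk y) := by
  obtain ⟨_, ⟨U, hU, rfl⟩, hx, -⟩ :=
    Y.isBasis_affineOpens.exists_subset_of_mem_open (Set.mem_univ y) isOpen_univ
  have h : Flat (Spec.map (Y.presheaf.germ U y hx)) := by
    rw [Flat.SpecMap_iff]
    let _ : Algebra Γ(Y, U) (Y.presheaf.stalk y) := (Y.presheaf.germ U y hx).hom.toAlgebra
    have := hU.isLocalization_stalk ⟨y, hx⟩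
    exact IsLocalization.flat (Y.presheaf.stalk y) (hU.primeIdealOf ⟨y, hx⟩).asIdeal.primeCompl
  rw [← hU.fromSpecStalk_eq_fromSpecStalk hx]
  have : IsOpenImmersion hU.fromSpec := hU.isOpenImmersion_fromSpec
  have : Flat hU.fromSpec := inferInstance
  change Flat (Spec.map (Y.presheaf.germ U y hx) ≫ hU.fromSpec)
  infer_instance

/-- `H^0(Spec O_{Y,y}, N)` and the stalk, both base changes of `Γ(V, R)`. -/
theorem exists_equiv_of_isBC (y : Y) (R : Y.Modules)
    (N : (Spec (CommRingCat.of (Y.presheaf.stalk y))).Modules) {V : Y.Opens} (hy : y ∈ V)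
    (hle : (⊤ : (Spec (CommRingCat.of (Y.presheaf.stalk y))).Opens) ≤ (Y.fromSpecStalk y) ⁻¹ᵁ V)
    {t : Γ(R, V) →+ Γ(N, ⊤)}
    (b1 : IsBC ((Y.fromSpecStalk y).appLE V ⊤ hle).hom t)
    (b2 : IsBC (Y.presheaf.germ V y hy).hom (R.presheaf.germ V y hy).hom) :
    Nonempty (R.presheaf.stalk y ≃ₗ[Y.presheaf.stalk y] Coh.HH (Spec (CommRingCat.of (Y.presheaf.stalk y))) N 0) := by
  letI mA := CurvesB.HZero.moduleΓ (X := Spec (CommRingCat.of (Y.presheaf.stalk y)))
    (Y.presheaf.stalk y) N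
  have b3 : IsBC (Y.presheaf.germ V y hy).hom t := by
    refine isBC_of_ringEquiv b1 (Scheme.ΓSpecIso (CommRingCat.of (Y.presheaf.stalk y))).symm.commRingCatIsoToRingEquiv
      (fun c x => ?_) (fun a => ?_)
    · change (CurvesB.HZero.gl (Y.presheaf.stalk y) (Spec (CommRingCat.of (Y.presheaf.stalk y))) c) • x = _
      congr 1
    · have h1 : (Y.fromSpecStalk y).appLE V ⊤ hle = Y.presheaf.germ V y hy ≫
          (Scheme.ΓSpecIso (Y.presheaf.stalk y)).inv := by
        rw [Scheme.Hom.appLE, Scheme.fromSpecStalk_app hy, Category.assoc, Category.assoc, ← Functor.map_comp]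
        have h2 : (homOfLE (le_top : (Y.fromSpecStalk y) ⁻¹ᵁ V ≤ ⊤)).op ≫ (homOfLE hle).op = 𝟙 _ := rfl
        rw [h2, CategoryTheory.Functor.map_id, Category.comp_id]
      rw [h1]
      rfl
  obtain ⟨e, -⟩ := b2.exists_equiv b3
  exact ⟨e.trans (CurvesB.HZero.equivLin (Y.presheaf.stalk y) N).symm⟩

/-- The stalk of `R^p f_* F` at `y`. -/
theorem exists_equiv (f : X ⟶ Y) [QuasiCompact f] [QuasiSeparated f] [HasInjectiveResolutions X.Modules]
    (F : X.Modules) (hF : Coh.IsQCoh F) (y : Y) (p : ℕ)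
    (X₁ : Scheme.{u}) [X₁.Over (Spec (CommRingCat.of (Y.presheaf.stalk y)))] (g : X₁ ⟶ X)
    (hsq : IsPullback g (X₁ ↘ Spec (CommRingCat.of (Y.presheaf.stalk y))) f (Y.fromSpecStalk y)) :
    Nonempty (((Coh.Rpush f p).obj F).presheaf.stalk y ≃ₗ[Y.presheaf.stalk y]
      Coh.HH X₁ ((Scheme.Modules.pullback g).obj F) p) := by
  let A : Type u := Y.presheaf.stalk y
  let f₁ : X₁ ⟶ Spec (CommRingCat.of (Y.presheaf.stalk y)) :=
    X₁ ↘ Spec (CommRingCat.of (Y.presheaf.stalk y))
  let F₁ := (Scheme.Modules.pullback g).obj F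
  have hF₁ : Coh.IsQCoh F₁ := VarietyB.PullSec.isQCoh_pullback g F hF
  haveI : Coh.IsQCoh F := hF
  haveI : Coh.IsQCoh F₁ := hF₁
  haveI := Groth.Agent.Dcoh.DerSch.hasInjectiveResolutions X₁
  haveI : QuasiCompact f₁ := MorphismProperty.of_isPullback hsq inferInstance
  haveI : QuasiSeparated f₁ := MorphismProperty.of_isPullback hsq inferInstance
  have hR : Coh.IsQCoh ((Coh.Rpush f p).obj F) := Groth.Agent.S0030.result f F p
  haveI := flat_fromSpecStalk Y y
  obtain ⟨e₁⟩ := Groth.Agent.S0033.result f (Y.fromSpecStalk y) g f₁ hsq F p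
  obtain ⟨V, hV, hy, -⟩ := exists_isAffineOpen_mem_and_subset (x := y) (U := ⊤) trivial
  have hle : (⊤ : (Spec (CommRingCat.of (Y.presheaf.stalk y))).Opens) ≤ (Y.fromSpecStalk y) ⁻¹ᵁ V := by
    intro z _
    have h : (Y.fromSpecStalk y) z ⤳ y := by
      have h1 : z ⤳ IsLocalRing.closedPoint (Y.presheaf.stalk y) := IsLocalRing.specializes_closedPoint z
      have h2 := h1.map (Y.fromSpecStalk y).continuous
      rwa [Scheme.fromSpecStalk_closedPoint] at h2
    exact h.mem_open V.2 hy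
  have b1 := Fga.QTPull.isBC_pullSec (h := Y.fromSpecStalk y) e₁ hR hV (isAffineOpen_top _) hle
  have b2 := isBC_germ _ hR hV y hy
  obtain ⟨e2⟩ := exists_equiv_of_isBC y ((Coh.Rpush f p).obj F) ((Coh.Rpush f₁ p).obj F₁) hy hle b1 b2
  have hv : ∀ j, K526.Leray.HV (Y.presheaf.stalk y) ((Coh.Rpush f₁ j).obj F₁) := fun j q x => by
    haveI : Coh.IsQCoh ((Coh.Rpush f₁ j).obj F₁) := Groth.Agent.S0030.result f₁ F₁ j
    haveI := Groth.Agent.S0007.result _ ((Coh.Rpush f₁ j).obj F₁) (q + 1) (Nat.succ_pos q)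
    exact Subsingleton.elim (α := Coh.HH _ _ (q + 1)) x 0
  obtain ⟨e3⟩ := K526.Leray.exists_equiv_zero f₁ (Y.presheaf.stalk y) (Category.comp_id _) p F₁ hv
  exact ⟨e2.trans ((VarietyB.HHLes.toHH _ _ 0).symm.trans (e3.symm.trans (VarietyB.HHLes.toHH _ _ p)))⟩

end K163.StalkRpush
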